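import Cfsg.Agent.Lib.Helper67.LSF.Defs

/-!
# LSF (S5286), package [VSHAPE] (helper86)

Along a geodesic of the Cayley tree of a free group the distance to a fixed vertex is V-shaped:
an interior vertex is strictly closer than the farther end.
-/

set_option autoImplicit false

namespace Cfsg.Agent.Lib.Helper86.LSF

open Cfsg.Agent.Lib.Helper67.LSF

universe u

/-- Right multiplication by a word that stays reduced adds the lengths. -/
theorem norm_mul_mk_of_isReduced {X : Type u} [DecidableEq X] (b : FreeGroup X)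
    (M : List (X × Bool)) (h : FreeGroup.IsReduced (b.toWord ++ M)) :
    (b * FreeGroup.mk M).norm = b.norm + M.length := by
  have h1 : b * FreeGroup.mk M = FreeGroup.mk (b.toWord ++ M) := by
    rw [← FreeGroup.mul_mk, FreeGroup.mk_toWord]
  rw [h1, FreeGroup.norm, FreeGroup.toWord_mk, h.reduce_eq, List.length_append, FreeGroup.norm]

/-- The inverse-reverse of a reduced word is reduced. -/
theorem isReduced_invRev {X : Type u} [DecidableEq X] (L : List (X × Bool))
    (h : FreeGroup.IsReduced L) : FreeGroup.IsReduced (FreeGroup.invRev L) := by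
  have h1 : (FreeGroup.mk L).toWord = L := by rw [FreeGroup.toWord_mk, h.reduce_eq]
  have h2 : ((FreeGroup.mk L)⁻¹).toWord = FreeGroup.invRev L := by
    rw [FreeGroup.toWord_inv, h1]
  rw [← h2]
  exact FreeGroup.isReduced_toWord

/-- [VSHAPE]. -/
theorem pkgVShape : PkgVShape.{u} := by
  intro X _ a L₁ L₂ hred hL₁ hL₂
  -- decompose the two words at the junction
  obtain ⟨L₁', ℓ₁, rfl⟩ : ∃ L₁' ℓ₁, L₁ = L₁' ++ [ℓ₁] :=
    ⟨L₁.dropLast, L₁.getLast hL₁, (List.dropLast_append_getLast hL₁).symm⟩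
  obtain ⟨ℓ₂, L₂', rfl⟩ : ∃ ℓ₂ L₂', L₂ = ℓ₂ :: L₂' := List.exists_cons_of_ne_nil hL₂
  have hch := List.isChain_append.mp hred
  have hR1 : FreeGroup.IsReduced (L₁' ++ [ℓ₁]) := hch.1
  have hR2 : FreeGroup.IsReduced (ℓ₂ :: L₂') := hch.2.1
  have hjun : ℓ₁.1 = ℓ₂.1 → ℓ₁.2 = ℓ₂.2 := by
    have := hch.2.2 ℓ₁ (by simp) ℓ₂ (by simp)
    exact this
  set b : FreeGroup X := a * FreeGroup.mk (L₁' ++ [ℓ₁]) with hb
  have hu : FreeGroup.IsReduced b.toWord := FreeGroup.isReduced_toWord
  -- the two ends in terms of `b`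
  have ha : a = b * FreeGroup.mk (FreeGroup.invRev (L₁' ++ [ℓ₁])) := by
    rw [hb, ← FreeGroup.inv_mk, mul_inv_cancel_right]
  have hc : a * FreeGroup.mk (L₁' ++ [ℓ₁] ++ ℓ₂ :: L₂') = b * FreeGroup.mk (ℓ₂ :: L₂') := by
    rw [hb, mul_assoc, FreeGroup.mul_mk]
  have hinv : FreeGroup.invRev (L₁' ++ [ℓ₁]) = (ℓ₁.1, !ℓ₁.2) :: FreeGroup.invRev L₁' := by
    simp [FreeGroup.invRev]
  have hRinv : FreeGroup.IsReduced ((ℓ₁.1, !ℓ₁.2) :: FreeGroup.invRev L₁') := by
    rw [← hinv]; exact isReduced_invRev _ hR1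
  rw [hc]
  rcases List.eq_nil_or_concat b.toWord with hnil | ⟨u', e, hue⟩
  · -- `b = 1`
    have h2 : FreeGroup.IsReduced (b.toWord ++ ℓ₂ :: L₂') := by rw [hnil]; simpa using hR2
    have h3 := norm_mul_mk_of_isReduced b _ h2
    have h4 : b.norm = 0 := by rw [FreeGroup.norm, hnil]; rfl
    rw [lt_max_iff]; right
    rw [h3, h4]; simp
  · by_cases hcase : e.1 = ℓ₂.1 → e.2 = ℓ₂.2
    · -- the step towards the second end does not cancel
      have h2 : FreeGroup.IsReduced (b.toWord ++ ℓ₂ :: L₂') := by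
        refine List.IsChain.append hu hR2 ?_
        intro x hx y hy
        rw [hue] at hx
        simp at hx hy
        subst hx; subst hy
        exact hcase
      have h3 := norm_mul_mk_of_isReduced b _ h2
      rw [lt_max_iff]; right
      rw [h3]; simp
    · -- the step back towards `a` does not cancel
      have hcase' : e.1 = ℓ₂.1 ∧ e.2 ≠ ℓ₂.2 := by
        constructor
        · by_contra h; exact hcase (fun h' => absurd h' h)
        · intro h; exact hcase (fun _ => h)
      have h2 : FreeGroup.IsReduced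
          (b.toWord ++ (ℓ₁.1, !ℓ₁.2) :: FreeGroup.invRev L₁') := by
        refine List.IsChain.append hu hRinv ?_
        intro x hx y hy
        rw [hue] at hx
        simp at hx hy
        subst hx; subst hy
        intro h1
        have h5 : ℓ₁.1 = ℓ₂.1 := by
          have : e.1 = ℓ₁.1 := h1
          rw [← this]; exact hcase'.1
        have h6 := hjun h5
        have h7 : e.2 ≠ ℓ₁.2 := by rw [h6]; exact hcase'.2
        show e.2 = !ℓ₁.2
        revert h7
        cases e.2 <;> cases ℓ₁.2 <;> simp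
      have h3 := norm_mul_mk_of_isReduced b _ h2
      rw [lt_max_iff]; left
      rw [ha, hinv, h3]; simp

end Cfsg.Agent.Lib.Helper86.LSF
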